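import Mathlib
import Cfsg.Agent.Lib.Blocks.FirstMain
import Cfsg.Agent.Lib.BrauerPairs.Bridge
import Cfsg.Agent.Lib.BrauerMap.DefectFacts
import Cfsg.Agent.Lib.BrauerMap.PKernel
import Cfsg.Agent.Lib.BrauerMap.Nilpotent
import Cfsg.Agent.Lib.BC78.CoprimeFix
import Cfsg.Agent.Lib.Chars82.PGroupChars
import Cfsg.Agent.Lib.Clifford.Basic

/-!
Blocks of a group all of whose non-trivial radical `p`-subgroups contain their centraliser up to a
central `p'`-subgroup: the blocks of positive defect have full defect, and there is one for each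
character of that central subgroup.
-/

set_option autoImplicit false
set_option linter.style.haveILetI false

namespace Cfsg.Agent.Lib.SLBlocks49.Local

open Cfsg.Agent.Lib.Characters Cfsg.Agent.Lib.Blocks Cfsg.Agent.Lib.BrauerMap.ClassSum
open Cfsg.Agent.Lib.BrauerMap.Inflation
open Cfsg.Agent.Lib.Clifford.Basic (classInner_ne_zero_symm)

universe u

variable {G : Type u} [Group G] [Finite G] {p : ℕ} [Fact p.Prime] {M : Ideal Cfsg.AlgInt}

/-- `χ` has central character `lam` on `Z`. -/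
def HasCentral (Z : Subgroup G) (χ : Cfsg.IrrCharacter G) (lam : Z →* ℂˣ) : Prop :=
  ∀ z : Z, (χ : G → ℂ) z / (χ : G → ℂ) 1 = ((lam z : ℂˣ) : ℂ)

theorem exists_hasCentral {Z : Subgroup G} (hZ : Z ≤ Subgroup.center G) (χ : Cfsg.IrrCharacter G) :
    ∃ lam : Z →* ℂˣ, HasCentral Z χ lam :=
  ⟨((Chars82.PGroupChars.omegaZ χ).comp (Subgroup.inclusion hZ)).toHomUnits, fun _ => rfl⟩

omit [Finite G] in
theorem centralChar_center (χ : Cfsg.IrrCharacter G) {z : G} (hz : z ∈ Subgroup.center G) :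
    Cfsg.centralChar (χ : G → ℂ) z = (χ : G → ℂ) z / (χ : G → ℂ) 1 := by
  have h : Subgroup.centralizer ({z} : Set G) = ⊤ := eq_top_iff.mpr fun g _ =>
    Subgroup.mem_centralizer_singleton_iff.mpr (Subgroup.mem_center_iff.mp hz g)
  rw [Cfsg.centralChar, h, Subgroup.index_top, Nat.cast_one, one_mul]

set_option synthInstance.maxHeartbeats 100000 in
set_option maxHeartbeats 1000000 in
/-- Over a normal `p`-subgroup containing its centraliser up to `Z`, the central character
determines the block. -/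
theorem sameBlock_of_constrained (hM : Cfsg.IsPModular p M) (Z D : Subgroup G) [D.Normal]
    (hZ : Z ≤ Subgroup.center G) (hD : IsPGroup p D)
    (hC : ∀ g ∈ Subgroup.centralizer (D : Set G), ∃ z ∈ Z, ∃ d ∈ D, g = z * d)
    (χ ψ : Cfsg.IrrCharacter G) {lam : Z →* ℂˣ} (hχ : HasCentral Z χ lam)
    (hψ : HasCentral Z ψ lam) : Cfsg.SameBlock M (χ : G → ℂ) (ψ : G → ℂ) := by
  classical
  haveI := hM.2.1
  letI := Ideal.Quotient.field M
  haveI := charP_residue hM
  letI := Fintype.ofFinite G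
  rw [sameBlock_iff_omegaBar]
  refine algHom_ext fun h => ?_
  by_cases hh : h ∈ Subgroup.centralizer (D : Set G)
  · obtain ⟨z, hz, d, hd, rfl⟩ := hC h hh
    let f := QuotientGroup.mk' D
    have hf : Function.Surjective f := QuotientGroup.mk'_surjective D
    have hker : IsPGroup p f.ker := by rw [QuotientGroup.ker_mk']; exact hD
    have hzc := hZ hz
    have hcls : ∀ g, IsConj (z * d) g → f g = f z := fun g hg => by
      obtain ⟨c, rfl⟩ := isConj_iff.1 hg
      refine (QuotientGroup.eq).mpr ?_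
      have : (c * (z * d) * c⁻¹)⁻¹ * z = (c * d * c⁻¹)⁻¹ := by
        have h1 : c * (z * d) * c⁻¹ = z * (c * d * c⁻¹) := by
          rw [← mul_assoc, ← mul_assoc, ← mul_assoc, ← Subgroup.mem_center_iff.mp hzc c]
        rw [h1, mul_inv_rev, inv_mul_cancel_right]
      rw [this]
      exact inv_mem (Subgroup.Normal.conj_mem inferInstance d hd c)
    have hzcl : ∀ g, IsConj z g ↔ g = z := fun g => by
      refine ⟨fun hg => ?_, fun e => e ▸ IsConj.refl _⟩
      obtain ⟨c, rfl⟩ := isConj_iff.1 hg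
      rw [Subgroup.mem_center_iff.mp hzc c, mul_inv_cancel_right]
    set n : Cfsg.AlgInt ⧸ M :=
      (((Finset.univ.filter fun g : G => IsConj (z * d) g).card : ℕ) : Cfsg.AlgInt ⧸ M) with hn
    have hpush : pushC (Cfsg.AlgInt ⧸ M) f hf (classSumC (Cfsg.AlgInt ⧸ M) (z * d)) =
        pushC (Cfsg.AlgInt ⧸ M) f hf (n • classSumC (Cfsg.AlgInt ⧸ M) z) := by
      refine Subtype.ext (MonoidAlgebra.ext (Finsupp.ext fun x => ?_))
      rw [coe_pushC, coe_pushC]
      show (push _ f (classSum _ (z * d))).coeff x = (push _ f (n • classSum _ z)).coeff x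
      rw [coeff_push, coeff_push]
      refine Eq.trans (b := if f z = x then n else 0) ?_ ?_
      swap
      · rw [Finset.sum_eq_single z]
        · rw [MonoidAlgebra.coeff_smul, Finsupp.smul_apply, coeff_classSum, if_pos (IsConj.refl z),
            smul_eq_mul, mul_one]
          split_ifs <;> rfl
        · intro g _ hg
          rw [MonoidAlgebra.coeff_smul, Finsupp.smul_apply, coeff_classSum,
            if_neg (fun h => hg ((hzcl g).mp h)), smul_zero, ite_self]
        · exact fun h => absurd (Finset.mem_univ z) h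
      by_cases hx : f z = x
      · rw [if_pos hx, hn, Finset.card_filter, Nat.cast_sum]
        refine Finset.sum_congr rfl fun g _ => ?_
        rw [coeff_classSum]
        by_cases hg : IsConj (z * d) g
        · rw [if_pos hg, if_pos hg, if_pos (by rw [hcls g hg, hx]), Nat.cast_one]
        · rw [if_neg hg, if_neg hg, ite_self, Nat.cast_zero]
      · rw [if_neg hx]
        refine Finset.sum_eq_zero fun g _ => ?_
        rw [coeff_classSum]
        by_cases hg : IsConj (z * d) g
        · rw [if_neg (by rw [hcls g hg]; exact hx)]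
        · rw [if_neg hg, ite_self]
    rw [Cfsg.Agent.Lib.BrauerMap.PKernel.algHom_eq_of_pushC_eq f hf hker (omegaBar M χ) hpush,
      Cfsg.Agent.Lib.BrauerMap.PKernel.algHom_eq_of_pushC_eq f hf hker (omegaBar M ψ) hpush,
      map_smul, map_smul, omegaBar_classSumC, omegaBar_classSumC]
    congr 2
    refine Subtype.ext ?_
    show Cfsg.centralChar (χ : G → ℂ) z = Cfsg.centralChar (ψ : G → ℂ) z
    rw [centralChar_center χ hzc, centralChar_center ψ hzc]
    exact (hχ ⟨z, hz⟩).trans (hψ ⟨z, hz⟩).symm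
  · rw [Cfsg.Agent.Lib.BrauerMap.Nilpotent.algHom_classSum_eq_zero hD hh,
      Cfsg.Agent.Lib.BrauerMap.Nilpotent.algHom_classSum_eq_zero hD hh]

/-- Every central character on a central `p'`-subgroup belongs to a character of degree prime
to `p`. -/
theorem exists_pPrime_hasCentral (Z : Subgroup G) (hZ : Z ≤ Subgroup.center G)
    (hZp : ¬ p ∣ Nat.card Z) (lam : Z →* ℂˣ) :
    ∃ χ : Cfsg.IrrCharacter G, ¬ p ∣ Cfsg.charDegree (χ : G → ℂ) ∧ HasCentral Z χ lam := by
  classical
  letI := Fintype.ofFinite G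
  let S : Sylow p G := default
  let K : Subgroup G := Z ⊔ (S : Subgroup G)
  letI := Fintype.ofFinite K
  obtain ⟨a, ha⟩ := IsPGroup.iff_card.mp S.isPGroup'
  have hcop : Nat.Coprime (p ^ a) (Nat.card Z) :=
    Nat.Coprime.pow_left a ((Fact.out : p.Prime).coprime_iff_not_dvd.mpr hZp)
  let E : Z ≃ Z := powCoprime hcop.symm
  have key : ∀ k : G, ∀ z : Z, ∀ s ∈ (S : Subgroup G), k = (z : G) * s →
      k ^ p ^ a = ((z ^ p ^ a : Z) : G) := by
    intro k z s hs e'
    subst e'
    have hc : Commute (z : G) s := (Subgroup.mem_center_iff.mp (hZ z.2) s).symm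
    have hs1 : s ^ p ^ a = 1 := by
      rw [← ha]; exact orderOf_dvd_iff_pow_eq_one.mp (Subgroup.orderOf_dvd_natCard _ hs)
    rw [hc.mul_pow, hs1, mul_one, Subgroup.coe_pow]
  have hdec : ∀ k ∈ K, ∃ z : Z, ∃ s ∈ (S : Subgroup G), k = (z : G) * s := by
    intro k hk
    haveI : Z.Normal := Chars82.PGroupChars.normal_of_le_center hZ
    obtain ⟨z, hz, s, hs, e'⟩ := Subgroup.mem_sup_of_normal_left.mp hk
    exact ⟨⟨z, hz⟩, s, hs, e'.symm⟩
  have hmem : ∀ k : K, (k : G) ^ p ^ a ∈ Z := fun k => by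
    obtain ⟨z, s, hs, e'⟩ := hdec k k.2
    rw [key k z s hs e']; exact SetLike.coe_mem _
  have hE : ∀ (k : K) (z : Z) (s : G), s ∈ (S : Subgroup G) → (k : G) = (z : G) * s →
      E.symm ⟨(k : G) ^ p ^ a, hmem k⟩ = z := fun k z s hs e' =>
    E.symm_apply_eq.mpr (Subtype.ext (key k z s hs e'))
  let ν : K →* ℂˣ :=
    { toFun := fun k => lam (E.symm ⟨(k : G) ^ p ^ a, hmem k⟩)
      map_one' := by rw [hE 1 1 1 (one_mem _) (by simp), map_one]
      map_mul' := fun k l => by
        obtain ⟨z, s, hs, e1⟩ := hdec k k.2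
        obtain ⟨w, t, ht, e2⟩ := hdec l l.2
        have hws : s * (w : G) = (w : G) * s := Subgroup.mem_center_iff.mp (hZ w.2) s
        have e3 : ((k * l : K) : G) = ((z * w : Z) : G) * (s * t) := by
          rw [Subgroup.coe_mul, Subgroup.coe_mul, e1, e2, mul_assoc, ← mul_assoc s, hws,
            mul_assoc (w : G), ← mul_assoc]
        rw [hE k z s hs e1, hE l w t ht e2, hE (k * l) (z * w) (s * t) (mul_mem hs ht) e3, map_mul] }
  have hidx : ¬ p ∣ K.index := fun h =>
    S.not_dvd_index (h.trans (Subgroup.index_dvd_of_le le_sup_right))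
  obtain ⟨χ, hχ, hχd⟩ := BC78.CoprimeFix.exists_constituent_not_dvd
    (Induced.Character.isCharacter_indFun K (Basic.isCharacter_irr (Linear.linChar ν)))
    (p := p) (n := K.index) (by rw [Induced.Basic.indFun_one, Linear.linChar_apply]; simp) hidx
  refine ⟨χ, ?_, fun z => ?_⟩
  · have := BC78.CoprimeFix.apply_one_eq_deg χ
    rwa [Cfsg.charDegree, this, Complex.natCast_re, Nat.floor_natCast]
  rw [Induced.Basic.frobenius_reciprocity K _ (Basic.isClassFunction_irr χ)] at hχ
  have hne := classInner_ne_zero_symm hχ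
  have hzK : (z : G) ∈ K := Subgroup.mem_sup_left z.2
  have hν : ν ⟨z, hzK⟩ = lam z := by
    show lam (E.symm _) = lam z
    rw [hE ⟨z, hzK⟩ z 1 (one_mem _) (by simp)]
  set c := (χ : G → ℂ) z / (χ : G → ℂ) 1
  have hcx : ∀ k : K, (χ : G → ℂ) ((⟨z, hzK⟩ * k : K) : G) = c * (χ : G → ℂ) k := fun k =>
    Chars82.PGroupChars.mul_center χ (hZ z.2) k
  by_contra hcne
  apply hne
  simp only [Cfsg.classInner]
  set Qs := ∑ k : K, (χ : G → ℂ) k * starRingEnd ℂ ((Linear.linChar ν : K → ℂ) k)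
  have h : Qs = c * starRingEnd ℂ ((lam z : ℂˣ) : ℂ) * Qs := by
    calc Qs = ∑ k : K, (χ : G → ℂ) ((⟨z, hzK⟩ * k : K) : G) *
          starRingEnd ℂ ((Linear.linChar ν : K → ℂ) (⟨z, hzK⟩ * k)) :=
        (Fintype.sum_equiv (Equiv.mulLeft (⟨z, hzK⟩ : K)) _ _ fun k => rfl).symm
      _ = _ := by
        rw [Finset.mul_sum]
        refine Finset.sum_congr rfl fun k _ => ?_
        rw [hcx, Linear.linChar_apply, Linear.linChar_apply, map_mul, hν, Units.val_mul, map_mul]
        ring
  have h1 : (Qs : ℂ) * (1 - c * starRingEnd ℂ ((lam z : ℂˣ) : ℂ)) = 0 := by linear_combination h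
  rcases mul_eq_zero.mp h1 with h1 | h1
  · rw [h1, mul_zero]
  · exfalso
    apply hcne
    have hn : ((lam z : ℂˣ) : ℂ) * starRingEnd ℂ ((lam z : ℂˣ) : ℂ) = 1 := by
      rw [Complex.mul_conj, Complex.normSq_eq_norm_sq, Complex.norm_eq_one_of_pow_eq_one
        (show ((lam z : ℂˣ) : ℂ) ^ orderOf z = 1 by
          rw [← Units.val_pow_eq_pow_val, ← map_pow, pow_orderOf_eq_one, map_one, Units.val_one])
        (orderOf_pos z).ne']
      norm_num
    linear_combination -(((lam z : ℂˣ) : ℂ)) * h1 - c * hn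

omit [Finite G] [Fact p.Prime] in
theorem blockDefect_eq_full {B : Set (Cfsg.IrrCharacter G)} {χ : Cfsg.IrrCharacter G} (hχ : χ ∈ B)
    (hd : ¬ p ∣ Cfsg.charDegree (χ : G → ℂ)) :
    Cfsg.blockDefect p B = (Nat.card G).factorization p := by
  have h : sInf ((fun χ : Cfsg.IrrCharacter G =>
      (Cfsg.charDegree (χ : G → ℂ)).factorization p) '' B) = 0 :=
    Nat.sInf_eq_zero.mpr (Or.inl ⟨χ, hχ, Nat.factorization_eq_zero_of_not_dvd hd⟩)
  rw [Cfsg.blockDefect, h, Nat.sub_zero]

/-- In a constrained group every block has full defect. -/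
theorem blockDefect_of_constrained (hM : Cfsg.IsPModular p M) (Z D : Subgroup G) [D.Normal]
    (hZ : Z ≤ Subgroup.center G) (hZp : ¬ p ∣ Nat.card Z) (hD : IsPGroup p D)
    (hC : ∀ g ∈ Subgroup.centralizer (D : Set G), ∃ z ∈ Z, ∃ d ∈ D, g = z * d)
    {B : Set (Cfsg.IrrCharacter G)} (hB : Cfsg.IsPBlock M B) :
    Cfsg.blockDefect p B = (Nat.card G).factorization p := by
  haveI := hM.2.1
  obtain ⟨χ, hχ⟩ := isPBlock_nonempty hB
  obtain ⟨lam, hlam⟩ := exists_hasCentral hZ χ
  obtain ⟨ψ, hψd, hψ⟩ := exists_pPrime_hasCentral Z hZ hZp lam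
  refine blockDefect_eq_full (χ := ψ) ?_ hψd
  rw [isPBlock_eq_blockOf hB hχ]
  exact sameBlock_of_constrained hM Z D hZ hD hC χ ψ hlam hψ

end Cfsg.Agent.Lib.SLBlocks49.Local
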