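import Mathlib
import Cfsg.Agent.Lib.SLBlocks49.Local

/-!
Blocks of positive defect in a group whose radical `p`-subgroups are self-centralising up to a
central `p'`-subgroup.
-/

set_option autoImplicit false
set_option linter.style.haveILetI false

namespace Cfsg.Agent.Lib.SLBlocks49.Count

open Cfsg.Agent.Lib.Characters Cfsg.Agent.Lib.Blocks Cfsg.Agent.Lib.SLBlocks49.Local
open Cfsg.Agent.Lib.BrauerPairs.Bridge (Res charP_res isDefectGroup_iff)

universe u

variable {G : Type u} [Group G] [Finite G] {p : ℕ}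

/-- Every non-trivial radical `p`-subgroup contains its centraliser up to `Z`. -/
def Constrained (p : ℕ) (Z : Subgroup G) : Prop :=
  ∀ D : Subgroup G, IsPGroup p D → D ≠ ⊥ →
    (∀ R : Subgroup G, IsPGroup p R → D ≤ R → R ≤ Subgroup.normalizer (D : Set G) →
      Subgroup.normalizer (D : Set G) ≤ Subgroup.normalizer (R : Set G) → R = D) →
    ∀ g ∈ Subgroup.centralizer (D : Set G), ∃ z ∈ Z, ∃ d ∈ D, g = z * d

variable [Fact p.Prime] {M : Ideal Cfsg.AlgInt} (hM : Cfsg.IsPModular p M) {Z : Subgroup G}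

/-- A `p`-subgroup which is Sylow in its normaliser is Sylow. -/
theorem factorization_eq_of_normalizer {D : Subgroup G} (hD : IsPGroup p D)
    (h : Nat.card D = p ^ (Nat.card (Subgroup.normalizer (D : Set G))).factorization p) :
    Nat.card D = p ^ (Nat.card G).factorization p := by
  obtain ⟨S, hS⟩ := hD.exists_le_sylow
  rw [← S.card_eq_multiplicity]
  rcases hS.eq_or_lt with e | hlt
  · rw [← e]
  exfalso
  have hnc := (normalizerCondition_iff_only_full_group_self_normalizing.mp
    (Group.normalizerCondition_of_isNilpotent (G := (S : Subgroup G))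
      (h := S.isPGroup'.isNilpotent))) (D.subgroupOf S)
  have hne : D.subgroupOf (S : Subgroup G) ≠ ⊤ := fun e =>
    hlt.not_ge (Subgroup.subgroupOf_eq_top.mp e)
  let E := Subgroup.normalizer ((D.subgroupOf (S : Subgroup G)) : Set (S : Subgroup G))
  have hlt' : D.subgroupOf (S : Subgroup G) < E :=
    lt_of_le_of_ne Subgroup.le_normalizer fun e => hne (hnc e.symm)
  have hEN : E.map (S : Subgroup G).subtype ≤ Subgroup.normalizer (D : Set G) := by
    rintro _ ⟨e, he, rfl⟩
    refine Subgroup.mem_normalizer_iff.mpr fun d => ?_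
    constructor
    · intro hd
      have := (Subgroup.mem_normalizer_iff.mp he ⟨d, hS hd⟩).mp hd
      simpa [Subgroup.mem_subgroupOf] using this
    · intro hd
      have hdS : d ∈ (S : Subgroup G) := by
        have := mul_mem (mul_mem (inv_mem e.2) (hS hd)) e.2
        simpa [mul_assoc] using this
      exact (Subgroup.mem_normalizer_iff.mp he ⟨d, hdS⟩).mpr
        (by simpa [Subgroup.mem_subgroupOf] using hd)
  obtain ⟨m, hm⟩ := IsPGroup.iff_card.mp (S.isPGroup'.to_subgroup E)
  have hdvd : p ^ m ∣ Nat.card (Subgroup.normalizer (D : Set G)) := by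
    rw [← hm, ← Subgroup.card_map_of_injective (S : Subgroup G).subtype_injective]
    exact Subgroup.card_dvd_of_le hEN
  have hmle := ((Fact.out : p.Prime).pow_dvd_iff_le_factorization Nat.card_pos.ne').mp hdvd
  have : Nat.card (D.subgroupOf (S : Subgroup G)) < Nat.card E := by
    refine lt_of_le_of_ne (Subgroup.card_le_of_le hlt'.le) fun e => hlt'.ne ?_
    exact Subgroup.eq_of_le_of_card_ge hlt'.le e.ge
  rw [Nat.card_congr (Subgroup.subgroupOfEquivOfLe hS).toEquiv, h, hm] at this
  exact (Nat.pow_le_pow_right (Fact.out : p.Prime).pos hmle).not_gt this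

include hM

theorem radical_of_isDefectGroup {B : Set (Cfsg.IrrCharacter G)} (hB : Cfsg.IsPBlock M B)
    {D : Subgroup G} (hBD : Cfsg.IsDefectGroup p M B D) :
    ∀ R : Subgroup G, IsPGroup p R → D ≤ R → R ≤ Subgroup.normalizer (D : Set G) →
      Subgroup.normalizer (D : Set G) ≤ Subgroup.normalizer (R : Set G) → R = D := by
  haveI := hM.2.1
  letI := Ideal.Quotient.field M
  haveI : CharP (Res M) p := charP_res hM
  intro R h1 h2 h3 h4
  exact BrauerMap.DefectFacts.eq_of_normal_normalizer ((isDefectGroup_iff hB D).mp hBD) h1 h2 h3 h4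

variable (hZ : Z ≤ Subgroup.center G) (hZp : ¬ p ∣ Nat.card Z) (hCon : Constrained p Z)

include hZ hZp hCon

/-- The normaliser of a non-trivial defect group is constrained. -/
theorem normalizer_constrained {B : Set (Cfsg.IrrCharacter G)} (hB : Cfsg.IsPBlock M B)
    {D : Subgroup G} (hBD : Cfsg.IsDefectGroup p M B D) (hne : D ≠ ⊥) :
    let N := Subgroup.normalizer (D : Set G)
    Z.subgroupOf N ≤ Subgroup.center N ∧ ¬ p ∣ Nat.card (Z.subgroupOf N) ∧
      IsPGroup p (D.subgroupOf N) ∧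
      ∀ g ∈ Subgroup.centralizer ((D.subgroupOf N : Subgroup N) : Set N),
        ∃ z ∈ Z.subgroupOf N, ∃ d ∈ D.subgroupOf N, g = z * d := by
  intro N
  haveI := hM.2.1
  have hDp : IsPGroup p D := isPGroup_isDefectGroup hBD
  have hZN : Z ≤ N := hZ.trans ((Subgroup.center_le_centralizer _).trans
    (Subgroup.centralizer_le_normalizer _))
  refine ⟨fun z hz => Subgroup.mem_center_iff.mpr fun g =>
      Subtype.ext (Subgroup.mem_center_iff.mp (hZ hz) g),
    by rwa [Nat.card_congr (Subgroup.subgroupOfEquivOfLe hZN).toEquiv],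
    hDp.of_equiv (Subgroup.subgroupOfEquivOfLe Subgroup.le_normalizer).symm, fun g hg => ?_⟩
  obtain ⟨z, hz, d, hd, e⟩ := hCon D hDp hne (radical_of_isDefectGroup hM hB hBD) (g : G)
    (Subgroup.mem_centralizer_iff.mpr fun d hd => congrArg Subtype.val
      (Subgroup.mem_centralizer_iff.mp hg ⟨d, Subgroup.le_normalizer hd⟩ hd))
  exact ⟨⟨z, hZN hz⟩, hz, ⟨d, Subgroup.le_normalizer hd⟩, hd, Subtype.ext e⟩

theorem blockDefect_cases {B : Set (Cfsg.IrrCharacter G)} (hB : Cfsg.IsPBlock M B) :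
    Cfsg.blockDefect p B = 0 ∨ Cfsg.blockDefect p B = (Nat.card G).factorization p := by
  haveI := hM.2.1
  letI := Ideal.Quotient.field M
  haveI : CharP (Res M) p := charP_res hM
  obtain ⟨D, hBD⟩ := exists_isDefectGroup (p := p) hB
  have hcard := card_isDefectGroup hM hB hBD
  by_cases hne : D = ⊥
  · left
    rw [hne, Subgroup.card_bot] at hcard
    exact ((Nat.pow_eq_one).mp hcard.symm).resolve_left (Fact.out : p.Prime).ne_one
  right
  obtain ⟨h1, h2, h3, h4⟩ := normalizer_constrained hM hZ hZp hCon hB hBD hne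
  haveI : (D.subgroupOf (Subgroup.normalizer (D : Set G))).Normal := Subgroup.normal_in_normalizer
  obtain ⟨b, ⟨hb, hbD, -⟩, -⟩ := (first_main (isPGroup_isDefectGroup hBD)).2 B hB hBD
  have hbc := card_isDefectGroup hM hb hbD
  rw [blockDefect_of_constrained hM _ _ h1 h2 h3 h4 hb,
    Nat.card_congr (Subgroup.subgroupOfEquivOfLe Subgroup.le_normalizer).toEquiv] at hbc
  have := factorization_eq_of_normalizer (isPGroup_isDefectGroup hBD) hbc
  rw [hcard] at this
  exact Nat.pow_right_injective (Fact.out : p.Prime).two_le this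

omit hCon in
theorem hasCentral_congr {lam μ : Z →* ℂˣ}
    (h : ∀ z : Z, Cfsg.MemLocalIdeal M (((lam z : ℂˣ) : ℂ) - ((μ z : ℂˣ) : ℂ))) : lam = μ := by
  haveI := hM.2.1
  refine MonoidHom.ext fun z => Units.ext ?_
  have hpow : ∀ ν : Z →* ℂˣ, ((ν z : ℂˣ) : ℂ) ^ Nat.card Z = 1 := fun ν => by
    rw [← Units.val_pow_eq_pow_val, ← map_pow, pow_card_eq_one', map_one, Units.val_one]
  have hint : ∀ ν : Z →* ℂˣ, IsIntegral ℤ (((ν z : ℂˣ) : ℂ)) := fun ν =>
    IsIntegral.of_pow Nat.card_pos (by rw [hpow]; exact isIntegral_one)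
  let a : Cfsg.AlgInt := ⟨_, hint lam⟩
  let b : Cfsg.AlgInt := ⟨_, hint μ⟩
  have := rootOfUnity_eq_of_sub_mem hM hZp (ε₁ := a) (ε₂ := b) (hpow lam) (hpow μ)
    ((memLocalIdeal_algInt_iff (a := a - b)).mp (h z))
  exact congrArg Subtype.val this

omit hCon in
theorem hasCentral_sameBlock {χ ψ : Cfsg.IrrCharacter G}
    (h : Cfsg.SameBlock M (χ : G → ℂ) (ψ : G → ℂ)) {lam μ : Z →* ℂˣ}
    (hχ : HasCentral Z χ lam) (hψ : HasCentral Z ψ μ) : lam = μ := by
  refine hasCentral_congr hM hZ hZp fun z => ?_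
  have := h z
  rwa [centralChar_center χ (hZ z.2), centralChar_center ψ (hZ z.2), hχ z, hψ z] at this

/-- Blocks of full defect with the same central character coincide. -/
theorem eq_of_full (hpG : p ∣ Nat.card G) {B B' : Set (Cfsg.IrrCharacter G)} (hB : Cfsg.IsPBlock M B) (hB' : Cfsg.IsPBlock M B')
    (hd : Cfsg.blockDefect p B = (Nat.card G).factorization p)
    (hd' : Cfsg.blockDefect p B' = (Nat.card G).factorization p)
    {χ χ' : Cfsg.IrrCharacter G} (hχ : χ ∈ B) (hχ' : χ' ∈ B') {lam : Z →* ℂˣ}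
    (hl : HasCentral Z χ lam) (hl' : HasCentral Z χ' lam) : B = B' := by
  haveI := hM.2.1
  letI := Ideal.Quotient.field M
  haveI : CharP (Res M) p := charP_res hM
  obtain ⟨D₀, hD₀⟩ := exists_isDefectGroup (p := p) hB
  obtain ⟨D₁, hD₁⟩ := exists_isDefectGroup (p := p) hB'
  have c0 := card_isDefectGroup hM hB hD₀
  have c1 := card_isDefectGroup hM hB' hD₁
  rw [hd] at c0; rw [hd'] at c1
  let S0 : Sylow p G := Sylow.ofCard D₀ c0
  let S1 : Sylow p G := Sylow.ofCard D₁ c1
  obtain ⟨x, hx⟩ := MulAction.exists_smul_eq G S1 S0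
  have hD : Cfsg.IsDefectGroup p M B' D₀ := by
    rw [isDefectGroup_iff hB']
    have h := ((isDefectGroup_iff hB' D₁).mp hD₁).map_conj x
    have e : D₁.map (MulAut.conj x).toMonoidHom = D₀ := congrArg (fun S : Sylow p G => (S : Subgroup G)) hx
    rwa [e] at h
  have hne : D₀ ≠ ⊥ := by
    rintro rfl
    rw [Subgroup.card_bot] at c0
    exact ((Fact.out : p.Prime).factorization_pos_of_dvd Nat.card_pos.ne' hpG).ne'
      (((Nat.pow_eq_one).mp c0.symm).resolve_left (Fact.out : p.Prime).ne_one)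
  obtain ⟨h1, h2, h3, h4⟩ := normalizer_constrained hM hZ hZp hCon hB hD₀ hne
  haveI : (D₀.subgroupOf (Subgroup.normalizer (D₀ : Set G))).Normal := Subgroup.normal_in_normalizer
  obtain ⟨b, ⟨hb, -, hbB⟩, -⟩ := (first_main (isPGroup_isDefectGroup hD₀)).2 B hB hD₀
  obtain ⟨b', ⟨hb', -, hbB'⟩, -⟩ := (first_main (isPGroup_isDefectGroup hD)).2 B' hB' hD
  let N := Subgroup.normalizer (D₀ : Set G)
  have hZN : Z ≤ N := hZ.trans ((Subgroup.center_le_centralizer _).trans
    (Subgroup.centralizer_le_normalizer _))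
  obtain ⟨ξ, hξ⟩ := isPBlock_nonempty hb
  obtain ⟨ξ', hξ'⟩ := isPBlock_nonempty hb'
  have key : ∀ (C : Set (Cfsg.IrrCharacter G)) (c : Set (Cfsg.IrrCharacter N))
      (hc : Cfsg.IsInducedBlock M N c C) (η : Cfsg.IrrCharacter N), η ∈ c →
      ∀ θ : Cfsg.IrrCharacter G, θ ∈ C → HasCentral Z θ lam →
      HasCentral (Z.subgroupOf N) η (lam.comp (Subgroup.subgroupOfEquivOfLe hZN).toMonoidHom) := by
    intro C c hc η hη θ hθ hθl
    obtain ⟨μ, hμ⟩ := exists_hasCentral h1 η
    suffices μ = lam.comp (Subgroup.subgroupOfEquivOfLe hZN).toMonoidHom from this ▸ hμ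
    refine MonoidHom.ext fun z => ?_
    let μ' : Z →* ℂˣ := μ.comp (Subgroup.subgroupOfEquivOfLe hZN).symm.toMonoidHom
    have hμl : μ' = lam := by
      refine hasCentral_congr hM hZ hZp fun w => ?_
      have h := hc.2.2 η hη θ hθ (w : G)
      have hw : (w : G) ∈ Subgroup.center G := hZ w.2
      have hset : {v : N | IsConj (w : G) (v : G)} = {⟨w, hZN w.2⟩} := by
        ext v
        refine ⟨fun hv => ?_, fun hv => ?_⟩
        · obtain ⟨c, hc'⟩ := isConj_iff.1 hv
          refine Subtype.ext ?_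
          show (v : G) = w
          rw [← hc', Subgroup.mem_center_iff.mp hw c, mul_inv_cancel_right]
        · rw [Set.mem_singleton_iff] at hv
          subst hv
          exact IsConj.refl _
      rw [Cfsg.inducedCentralChar, hset, finsum_mem_singleton, centralChar_center θ hw, hθl w] at h
      have hm := hμ ((Subgroup.subgroupOfEquivOfLe hZN).symm w)
      rw [show ((((Subgroup.subgroupOfEquivOfLe hZN).symm w : Z.subgroupOf N) : N)) = ⟨w, hZN w.2⟩
        from rfl] at hm
      rw [hm] at h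
      exact h
    exact DFunLike.congr_fun (show μ = _ by
      rw [← hμl]; ext v; simp [μ']) z
  have hk := key B b hbB ξ hξ χ hχ hl
  have hk' := key B' b' hbB' ξ' hξ' χ' hχ' hl'
  have hbb : b = b' := by
    rw [isPBlock_eq_blockOf hb hξ, isPBlock_eq_blockOf hb' hξ', blockOf_eq_iff, ← sameBlock_iff_omegaBar]
    exact sameBlock_of_constrained hM _ _ h1 h3 h4 ξ ξ' hk hk'
  exact eq_of_isInducedBlock hbB (hbb ▸ hbB')

/-- There is exactly one block of full defect for each character of `Z`. -/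
theorem card_full (hpG : p ∣ Nat.card G) :
    Nat.card {B : Set (Cfsg.IrrCharacter G) // Cfsg.IsPBlock M B ∧
      Cfsg.blockDefect p B = (Nat.card G).factorization p} = Nat.card Z := by
  classical
  haveI := hM.2.1
  letI : CommGroup Z := { (inferInstance : Group Z) with mul_comm := fun a b => Subtype.ext (Subgroup.mem_center_iff.mp (hZ b.2) a) }
  rw [← CommGroup.card_monoidHom_of_hasEnoughRootsOfUnity Z ℂ]
  choose χ hχd hχ using fun lam : Z →* ℂˣ => exists_pPrime_hasCentral (p := p) Z hZ hZp lam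
  refine (Nat.card_congr (Equiv.ofBijective (fun lam : Z →* ℂˣ =>
    (⟨Cfsg.blockOf M (χ lam : G → ℂ), isPBlock_blockOf (χ lam),
      blockDefect_eq_full (mem_blockOf_self (χ lam)) (hχd lam)⟩ :
      {B : Set (Cfsg.IrrCharacter G) // Cfsg.IsPBlock M B ∧
        Cfsg.blockDefect p B = (Nat.card G).factorization p})) ⟨fun a b h => ?_, ?_⟩)).symm
  · have h' : Cfsg.blockOf M (χ a : G → ℂ) = Cfsg.blockOf M (χ b : G → ℂ) := congrArg Subtype.val h
    exact hasCentral_sameBlock hM hZ hZp (show Cfsg.SameBlock M (χ a : G → ℂ) (χ b : G → ℂ) from by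
      have := mem_blockOf_self (M := M) (χ b)
      rw [← h'] at this
      exact this) (hχ a) (hχ b)
  · rintro ⟨B, hB, hd⟩
    obtain ⟨ψ, hψ⟩ := isPBlock_nonempty hB
    obtain ⟨lam, hlam⟩ := exists_hasCentral hZ ψ
    exact ⟨lam, Subtype.ext (eq_of_full hM hZ hZp hCon hpG (isPBlock_blockOf (χ lam)) hB
      (blockDefect_eq_full (mem_blockOf_self (χ lam)) (hχd lam)) hd (mem_blockOf_self (χ lam)) hψ
      (hχ lam) hlam)⟩

end Cfsg.Agent.Lib.SLBlocks49.Count
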