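import Mathlib
import Cfsg.Agent.Lib.Blocks.Central
import Cfsg.Agent.Lib.Blocks.LocalRing
import Cfsg.Agent.Lib.Characters.DefectZero
import Cfsg.Agent.Lib.Characters.Linear
import Cfsg.Agent.Lib.Glauberman.PGroup

/-!
At most one irreducible character of defect zero: a criterion through the biinvariant functions
`g ↦ ∑_{u ∈ U} χ (g u)` for a Sylow subgroup `U`.
-/

set_option autoImplicit false
set_option linter.style.haveILetI false

namespace Cfsg.Agent.Lib.SLBlocks49.DefectZero

open Cfsg.Agent.Lib.Characters Cfsg.Agent.Lib.Blocks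

universe u

section Orbit

variable {A X : Type*} [Group A] [Fintype A] [Fintype X] [MulAction A X]

/-- Orbit-stabiliser for sums of invariant functions. -/
theorem sum_div_card_mem {R : Type*} [Field R] [CharZero R] (P : AddSubmonoid R) (h : X → R)
    (hinv : ∀ (a : A) (x : X), h (a • x) = h x)
    (hP : ∀ x, h x / (Nat.card (MulAction.stabilizer A x) : R) ∈ P) :
    (∑ x, h x) / (Nat.card A : R) ∈ P := by
  classical
  haveI : Fintype (Quotient (MulAction.orbitRel A X)) := Fintype.ofFinite _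
  rw [← Finset.sum_fiberwise Finset.univ (fun x : X => (Quotient.mk'' x : Quotient (MulAction.orbitRel A X))) h,
    Finset.sum_div]
  refine AddSubmonoid.sum_mem _ fun q _ => ?_
  induction q using Quotient.inductionOn' with
  | h x =>
    have hset : (Finset.univ.filter fun y : X =>
        (Quotient.mk'' y : Quotient (MulAction.orbitRel A X)) = Quotient.mk'' x) =
        (MulAction.orbit A x).toFinset := by
      ext y
      rw [Finset.mem_filter, Set.mem_toFinset, Quotient.eq'', MulAction.orbitRel_apply]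
      simp
    rw [hset, Finset.sum_congr rfl (g := fun _ => h x) fun y hy => by
      obtain ⟨a, rfl⟩ := Set.mem_toFinset.mp hy
      exact hinv a x]
    rw [Finset.sum_const, nsmul_eq_mul, Set.toFinset_card]
    have hc : (Fintype.card (MulAction.orbit A x) : R) * (Nat.card (MulAction.stabilizer A x) : R) =
        Nat.card A := by
      rw [Nat.card_eq_fintype_card, Nat.card_eq_fintype_card (α := A), ← Nat.cast_mul,
        MulAction.card_orbit_mul_card_stabilizer_eq_card_group]
    have hA : (Nat.card A : R) ≠ 0 := Nat.cast_ne_zero.mpr Nat.card_pos.ne'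
    have e : (Fintype.card (MulAction.orbit A x) : R) * h x / (Nat.card A : R) =
        h x / (Nat.card (MulAction.stabilizer A x) : R) := by
      have hs : (Nat.card (MulAction.stabilizer A x) : R) ≠ 0 := Nat.cast_ne_zero.mpr Nat.card_pos.ne'
      rw [div_eq_div_iff hA hs, ← hc]
      ring
    rw [e]
    exact hP x

end Orbit

variable {G : Type u} [Group G] [Fintype G] {p : ℕ} [Fact p.Prime] {M : Ideal Cfsg.AlgInt}

/-- The degree is divisible by the full `p`-part of the group order. -/
def IsDefectZero (p : ℕ) (χ : Cfsg.IrrCharacter G) : Prop :=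
  p ^ (Nat.card G).factorization p ∣ Cfsg.charDegree (χ : G → ℂ)

theorem exists_degree_eq (χ : Cfsg.IrrCharacter G) (h : IsDefectZero p χ) :
    ∃ e r : ℕ, Nat.card G = p ^ (Nat.card G).factorization p * r ∧ ¬ p ∣ r ∧ ¬ p ∣ e ∧
      (χ : G → ℂ) 1 = ((p ^ (Nat.card G).factorization p * e : ℕ) : ℂ) := by
  obtain ⟨e, he⟩ := h
  obtain ⟨d, -, hdvd, hd⟩ := Degree.exists_degree_dvd χ
  have hd' : Cfsg.charDegree (χ : G → ℂ) = d := by
    rw [Cfsg.charDegree, hd, Complex.natCast_re, Nat.floor_natCast]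
  have hr := Nat.not_dvd_ordCompl (Fact.out : p.Prime) (Nat.card_pos (α := G)).ne'
  have hG := (Nat.ordProj_mul_ordCompl_eq_self (Nat.card G) p).symm
  refine ⟨e, Nat.card G / p ^ (Nat.card G).factorization p, hG, hr, fun hpe => hr ?_, by rw [hd, ← hd', he]⟩
  have h1 : p ^ (Nat.card G).factorization p * e ∣
      p ^ (Nat.card G).factorization p * (Nat.card G / p ^ (Nat.card G).factorization p) := by
    rw [← hG, ← he, hd']; exact hdvd
  exact hpe.trans ((Nat.mul_dvd_mul_iff_left (pow_pos (Fact.out : p.Prime).pos _)).mp h1)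

/-- Values of a defect-zero character are divisible by the orders of centralising `p`-groups. -/
theorem apply_div_mem (hM : Cfsg.IsPModular p M) [M.IsMaximal] (χ : Cfsg.IrrCharacter G) (h : IsDefectZero p χ)
    (g : G) {q : ℕ} {k : ℕ} (hq : q = p ^ k) (hdvd : q ∣ Nat.card (Subgroup.centralizer ({g} : Set G))) :
    (χ : G → ℂ) g / (q : ℂ) ∈ localRing M := by
  obtain ⟨e, r, hG, hr, he, hd⟩ := exists_degree_eq χ h
  obtain ⟨s, hs⟩ := hdvd
  have hmul := (Subgroup.centralizer ({g} : Set G)).index_mul_card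
  rw [hs, hG] at hmul
  have hmul' : ((Subgroup.centralizer ({g} : Set G)).index : ℂ) * ((q : ℂ) * s) =
      (p : ℂ) ^ (Nat.card G).factorization p * r := by exact_mod_cast hmul
  have hq0 : (q : ℂ) ≠ 0 := by
    rw [hq]; exact Nat.cast_ne_zero.mpr (pow_ne_zero _ (Fact.out : p.Prime).ne_zero)
  have hr0 : (r : ℂ) ≠ 0 := Nat.cast_ne_zero.mpr fun e0 => hr (e0 ▸ dvd_zero p)
  have he0 : (e : ℂ) ≠ 0 := Nat.cast_ne_zero.mpr fun e0 => he (e0 ▸ dvd_zero p)
  have hp0 : (p : ℂ) ^ (Nat.card G).factorization p ≠ 0 :=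
    pow_ne_zero _ (Nat.cast_ne_zero.mpr (Fact.out : p.Prime).ne_zero)
  have heq : (χ : G → ℂ) g / (q : ℂ) =
      Cfsg.centralChar (χ : G → ℂ) g * ((s * e : ℕ) : ℂ) * ((r : ℂ))⁻¹ := by
    rw [Cfsg.centralChar, hd]
    push_cast
    field_simp
    linear_combination -((χ : G → ℂ) g) * hmul'
  rw [heq]
  exact mul_mem (mul_mem (centralChar_mem_localRing χ g)
    (mem_localRing_of_isIntegral (isIntegral_natCast _))) (natCast_inv_mem_localRing hM hr)

variable (U : Subgroup G) [Fintype U]

/-- The biinvariant function of a character. -/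
noncomputable def uSum (χ : Cfsg.IrrCharacter G) (g : G) : ℂ :=
  ∑ u : U, (χ : G → ℂ) (g * u)

omit [Fact p.Prime] in
theorem uSum_biinv (χ : Cfsg.IrrCharacter G) {a b : G} (ha : a ∈ U) (hb : b ∈ U) (g : G) :
    uSum U χ (a * g * b) = uSum U χ g := by
  refine Fintype.sum_equiv ((Equiv.mulRight (⟨a, ha⟩ : U)).trans (Equiv.mulLeft (⟨b, hb⟩ : U))) _ _ fun u => ?_
  show (χ : G → ℂ) (a * g * b * u) = (χ : G → ℂ) (g * (b * (u * a)))
  have := Basic.isClassFunction_irr χ (g * (b * (u * a))) a
  rw [← this]; congr 1; group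

/-- The stabiliser of `g` among `U`. -/
def stabK (g : G) : Subgroup U :=
  (U.comap (MulAut.conj g⁻¹).toMonoidHom).subgroupOf U

omit [Fintype G] [Fintype U] [Fact p.Prime] in
theorem mem_stabK {g : G} {k : U} : k ∈ stabK U g ↔ g⁻¹ * k * g ∈ U := by
  simp [stabK, Subgroup.mem_subgroupOf]

variable (hM : Cfsg.IsPModular p M) [M.IsMaximal] (hU : IsPGroup p U)

include hM hU

theorem uSum_div_mem (χ : Cfsg.IrrCharacter G) (h : IsDefectZero p χ) (g : G) :
    uSum U χ g / (Nat.card (stabK U g) : ℂ) ∈ localRing M := by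
  classical
  haveI := Fintype.ofFinite (stabK U g)
  letI : MulAction (stabK U g) U :=
    { smul := fun k u => ⟨g⁻¹ * (k : U) * g * u * ((k : U) : G)⁻¹,
        mul_mem (mul_mem ((mem_stabK U).mp k.2) u.2) (inv_mem (k : U).2)⟩
      one_smul := fun u => Subtype.ext (by
        show g⁻¹ * (((1 : stabK U g) : U) : G) * g * u * (((1 : stabK U g) : U) : G)⁻¹ = u
        simp)
      mul_smul := fun k l u => Subtype.ext (by
        show g⁻¹ * (((k * l : stabK U g) : U) : G) * g * u * (((k * l : stabK U g) : U) : G)⁻¹ =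
          g⁻¹ * (k : U) * g * (g⁻¹ * (l : U) * g * u * ((l : U) : G)⁻¹) * ((k : U) : G)⁻¹
        simp only [Subgroup.coe_mul]
        group) }
  have hsmul : ∀ (k : stabK U g) (u : U),
      ((k • u : U) : G) = g⁻¹ * (k : U) * g * u * ((k : U) : G)⁻¹ := fun _ _ => rfl
  refine sum_div_card_mem (A := stabK U g) (localRing M).toAddSubmonoid
    (fun u : U => (χ : G → ℂ) (g * u)) (fun k u => ?_) fun u => ?_
  · have := Basic.isClassFunction_irr χ (g * u) ((k : U) : G)
    rw [hsmul, ← this]; congr 1; group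
  · obtain ⟨j, hj⟩ := IsPGroup.iff_card.mp
      ((hU.to_subgroup (stabK U g)).to_subgroup (MulAction.stabilizer (stabK U g) u))
    refine apply_div_mem hM χ h (g * u) hj ?_
    rw [← Subgroup.card_map_of_injective (f := U.subtype.comp (stabK U g).subtype)
      (fun a b e => Subtype.ext (Subtype.ext e))]
    refine Subgroup.card_dvd_of_le ?_
    rintro _ ⟨k, hk, rfl⟩
    have e : g⁻¹ * (k : U) * g * u * ((k : U) : G)⁻¹ = u := by
      rw [← hsmul, MulAction.mem_stabilizer_iff.mp hk]
    refine Subgroup.mem_centralizer_singleton_iff.mpr ?_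
    show ((k : U) : G) * (g * u) = g * u * ((k : U) : G)
    calc ((k : U) : G) * (g * u)
        = g * (g⁻¹ * (k : U) * g * u * ((k : U) : G)⁻¹) * ((k : U) : G) := by group
      _ = _ := by rw [e]

theorem uSum_sum (χ : Cfsg.IrrCharacter G) (h : IsDefectZero p χ) :
    ∑ u : U, (χ : G → ℂ) u = (χ : G → ℂ) 1 := by
  classical
  obtain ⟨e, r, hG, hr, -, hd⟩ := exists_degree_eq χ h
  rw [Finset.sum_eq_single (1 : U)]
  · rfl
  · intro u _ hu
    refine Characters.DefectZero.apply_eq_zero (Fact.out : p.Prime) χ hG hr hd ?_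
    obtain ⟨j, hj⟩ := IsPGroup.iff_orderOf.mp hU u
    rw [← Subgroup.orderOf_coe] at hj
    rcases Nat.eq_zero_or_pos j with rfl | hj0
    · rw [pow_zero, orderOf_eq_one_iff] at hj
      exact absurd (Subtype.ext hj) hu
    · rw [hj]; exact dvd_pow_self p hj0.ne'
  · simp

/-- Orthogonality of the biinvariant functions. -/
theorem sum_uSum_mul (χ ψ : Cfsg.IrrCharacter G) (h : IsDefectZero p ψ) :
    ∑ g : G, uSum U χ g * uSum U ψ g⁻¹ =
      (Nat.card G : ℂ) * (Nat.card U : ℂ) * Cfsg.classInner (ψ : G → ℂ) (χ : G → ℂ) := by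
  classical
  have hψ0 := Basic.apply_one_ne_zero ψ
  have key : ∀ u v : U, ∑ g : G, (χ : G → ℂ) (g * u) * (ψ : G → ℂ) (g⁻¹ * v) =
      (Nat.card G : ℂ) * Cfsg.classInner (ψ : G → ℂ) χ * (ψ : G → ℂ) (v * u) / (ψ : G → ℂ) 1 := by
    intro u v
    rw [eq_div_iff hψ0, mul_comm _ ((ψ : G → ℂ) 1),
      ← Cfsg.Agent.Lib.Glauberman.conv χ ψ ((v : G) * u)]
    congr 1
    refine Fintype.sum_equiv ((Equiv.mulRight (u : G)).trans (Equiv.inv G)) _ _ fun g => ?_
    show (χ : G → ℂ) (g * u) * (ψ : G → ℂ) (g⁻¹ * v) =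
      (χ : G → ℂ) ((g * u)⁻¹)⁻¹ * (ψ : G → ℂ) ((g * u)⁻¹ * (v * u))
    rw [inv_inv]
    congr 1
    have := Basic.isClassFunction_irr ψ (g⁻¹ * v) ((u : G)⁻¹)
    rw [← this]; congr 1; group
  simp only [uSum, Finset.sum_mul_sum]
  rw [Finset.sum_comm]
  simp only [Finset.sum_comm (s := (Finset.univ : Finset G)), key]
  rw [Finset.sum_congr rfl (g := fun _ : U => (Nat.card G : ℂ) * Cfsg.classInner (ψ : G → ℂ) χ)
    fun u _ => ?_]
  · rw [Finset.sum_const, Finset.card_univ, nsmul_eq_mul, Nat.card_eq_fintype_card (α := U)]; ring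
  · rw [← Finset.sum_div, ← Finset.mul_sum,
      Fintype.sum_equiv (Equiv.mulRight u) (fun v : U => (ψ : G → ℂ) ((v : G) * u))
        (fun v : U => (ψ : G → ℂ) v) (fun v => rfl), uSum_sum U hM hU ψ h,
      mul_div_cancel_right₀ _ hψ0]

/-- The uniqueness criterion. -/
theorem unique {ι : Type*} [Fintype ι] (x : ι → G) (hι : ¬ p ∣ Fintype.card ι)
    (hUc : Nat.card U = p ^ (Nat.card G).factorization p)
    (hfree : ∀ (a b : U) (i j : ι), (a : G) * x i * b = x j → a = 1 ∧ b = 1 ∧ i = j)
    (hdich : ∀ g : G, (∃ (a b : U) (i : ι), g = (a : G) * x i * b) ∨ ∃ k : U, k ≠ 1 ∧ g⁻¹ * k * g ∈ U)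
    (hcongr : ∀ χ : Cfsg.IrrCharacter G, IsDefectZero p χ → ∀ i j,
      Cfsg.MemLocalIdeal M (uSum U χ (x i) - uSum U χ (x j)))
    {χ ψ : Cfsg.IrrCharacter G} (hχ : IsDefectZero p χ) (hψ : IsDefectZero p ψ) : χ = ψ := by
  classical
  have hint : ∀ (θ : Cfsg.IrrCharacter G) (g : G), uSum U θ g ∈ localRing M := fun θ g =>
    mem_localRing_of_isIntegral (IsIntegral.sum _ fun u _ => Basic.isIntegral_apply (Basic.isCharacter_irr θ) _)
  have hdz : ∀ θ : Cfsg.IrrCharacter G, IsDefectZero p θ → IsDefectZero p (Linear.conjChar θ) := by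
    intro θ h
    unfold IsDefectZero at *
    rwa [Cfsg.charDegree, Linear.conjChar_apply, Complex.conj_re]
  have hinv : ∀ (θ : Cfsg.IrrCharacter G) (g : G), uSum U θ g⁻¹ = uSum U (Linear.conjChar θ) g := by
    intro θ g
    refine Fintype.sum_equiv (Equiv.inv U) _ _ fun u => ?_
    show (θ : G → ℂ) (g⁻¹ * u) = (Linear.conjChar θ : G → ℂ) (g * ((u⁻¹ : U) : G))
    rw [Linear.conjChar_apply, ← Basic.apply_inv (Basic.isCharacter_irr θ), Subgroup.coe_inv]
    have := Basic.isClassFunction_irr θ (g⁻¹ * u) (u : G)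
    rw [← this]; congr 1; group
  let r := Nat.card G / p ^ (Nat.card G).factorization p
  have hr : ¬ p ∣ r := Nat.not_dvd_ordCompl (Fact.out : p.Prime) (Nat.card_pos (α := G)).ne'
  have hG : Nat.card G = Nat.card U * r := by
    rw [hUc]; exact (Nat.ordProj_mul_ordCompl_eq_self (Nat.card G) p).symm
  have main : ∀ θ η : Cfsg.IrrCharacter G, IsDefectZero p θ → IsDefectZero p η →
      Cfsg.MemLocalIdeal M ((r : ℂ) * Cfsg.classInner (η : G → ℂ) θ -
        ∑ i, uSum U θ (x i) * uSum U η (x i)⁻¹) := by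
    intro θ η hθ hη
    let hh : G → ℂ := fun g => uSum U θ g * uSum U η g⁻¹
    let P : G → Prop := fun g => ∃ (a b : U) (i : ι), g = (a : G) * x i * b
    have hcell : ∑ g ∈ Finset.univ.filter P, hh g = (Nat.card U : ℂ) ^ 2 * ∑ i, hh (x i) := by
      rw [show (Finset.univ.filter P) = (Finset.univ : Finset (U × U × ι)).image
        (fun t => (t.1 : G) * x t.2.2 * t.2.1) from ?_, Finset.sum_image ?_]
      · rw [Fintype.sum_prod_type]
        simp only [Fintype.sum_prod_type]
        rw [Finset.sum_congr rfl (g := fun _ : U => (Nat.card U : ℂ) * ∑ i, hh (x i)) fun a _ => ?_]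
        · rw [Finset.sum_const, Finset.card_univ, nsmul_eq_mul, Nat.card_eq_fintype_card]; ring
        rw [Finset.sum_congr rfl (g := fun _ : U => ∑ i, hh (x i)) fun b _ => ?_]
        · rw [Finset.sum_const, Finset.card_univ, nsmul_eq_mul, Nat.card_eq_fintype_card]
        refine Finset.sum_congr rfl fun i _ => ?_
        show uSum U θ _ * uSum U η _ = _
        rw [uSum_biinv U θ a.2 b.2, mul_inv_rev, mul_inv_rev, ← mul_assoc,
          uSum_biinv U η (inv_mem b.2) (inv_mem a.2)]
      · rintro ⟨a, b, i⟩ _ ⟨a', b', j⟩ _ e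
        simp only at e
        obtain ⟨h1, h2, h3⟩ := hfree (a'⁻¹ * a) (b * b'⁻¹) i j (by
          push_cast
          calc (a' : G)⁻¹ * a * x i * (b * (b' : G)⁻¹) = (a' : G)⁻¹ * ((a : G) * x i * b) * (b' : G)⁻¹ := by group
            _ = x j := by rw [e]; group)
        rw [inv_mul_eq_one] at h1
        rw [mul_inv_eq_one] at h2
        rw [h1, h2, h3]
      · ext g
        simp only [Finset.mem_filter, Finset.mem_univ, true_and, Finset.mem_image, P]
        exact ⟨fun ⟨a, b, i, e⟩ => ⟨(a, b, i), e.symm⟩, fun ⟨⟨a, b, i⟩, e⟩ => ⟨a, b, i, e.symm⟩⟩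
    let I : AddSubmonoid ℂ :=
      { carrier := {z | Cfsg.MemLocalIdeal M z}
        zero_mem' := memLocalIdeal_zero
        add_mem' := memLocalIdeal_add }
    have hP : ∀ (a b : U) (g : G), P ((a : G) * g * b) ↔ P g := by
      intro a b g
      constructor
      · rintro ⟨c, d, i, e⟩
        refine ⟨a⁻¹ * c, d * b⁻¹, i, ?_⟩
        push_cast
        calc g = (a : G)⁻¹ * ((a : G) * g * b) * (b : G)⁻¹ := by group
          _ = _ := by rw [e]; group
      · rintro ⟨c, d, i, e⟩
        refine ⟨a * c, d * b, i, ?_⟩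
        push_cast
        rw [e]; group
    letI : MulAction (U × U) G :=
      { smul := fun t g => (t.1 : G) * g * (t.2 : G)⁻¹
        one_smul := fun g => by
          show ((1 : U × U).1 : G) * g * ((1 : U × U).2 : G)⁻¹ = g
          simp
        mul_smul := fun s t g => by
          show ((s * t).1 : G) * g * ((s * t).2 : G)⁻¹ = (s.1 : G) * ((t.1 : G) * g * (t.2 : G)⁻¹) * (s.2 : G)⁻¹
          simp only [Prod.fst_mul, Prod.snd_mul, Subgroup.coe_mul]
          group }
    have hsm : ∀ (t : U × U) (g : G), t • g = (t.1 : G) * g * (t.2 : G)⁻¹ := fun _ _ => rfl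
    have hrest : (∑ g, if P g then 0 else hh g) / (Nat.card (U × U) : ℂ) ∈ I := by
      refine sum_div_card_mem I _ (fun t g => ?_) fun g => ?_
      · rw [hsm, show (t.1 : G) * g * (t.2 : G)⁻¹ = (t.1 : G) * g * ((t.2⁻¹ : U) : G) by simp]
        rw [if_congr (hP t.1 t.2⁻¹ g) rfl rfl]
        split_ifs
        · rfl
        · show uSum U θ _ * uSum U η _ = _
          rw [uSum_biinv U θ t.1.2 (t.2⁻¹).2, mul_inv_rev, mul_inv_rev, ← mul_assoc,
            uSum_biinv U η (inv_mem (t.2⁻¹).2) (inv_mem t.1.2)]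
      · split_ifs with hg
        · rw [zero_div]; exact I.zero_mem
        obtain ⟨k, hk1, hk⟩ := (hdich g).resolve_left hg
        have hst : Nat.card (MulAction.stabilizer (U × U) g) = Nat.card (stabK U g) := by
          refine Nat.card_congr
            { toFun := fun t => ⟨t.1.1, (mem_stabK U).mpr ?_⟩
              invFun := fun k => ⟨(k.1, ⟨g⁻¹ * k.1 * g, (mem_stabK U).mp k.2⟩), ?_⟩
              left_inv := fun t => ?_
              right_inv := fun k => rfl }
          · have e := MulAction.mem_stabilizer_iff.mp t.2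
            rw [hsm, mul_inv_eq_iff_eq_mul] at e
            rw [mul_assoc, e, inv_mul_cancel_left]
            exact t.1.2.2
          · rw [MulAction.mem_stabilizer_iff, hsm]; group
          · have e := MulAction.mem_stabilizer_iff.mp t.2
            rw [hsm, mul_inv_eq_iff_eq_mul] at e
            refine Subtype.ext (Prod.ext rfl (Subtype.ext ?_))
            show g⁻¹ * (t.1.1 : G) * g = t.1.2
            rw [mul_assoc, e, inv_mul_cancel_left]
        have hst' : Nat.card (stabK U g⁻¹) = Nat.card (stabK U g) := Nat.card_congr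
          { toFun := fun k => ⟨⟨g * k.1 * g⁻¹, by simpa using (mem_stabK U).mp k.2⟩,
              (mem_stabK U).mpr (by group; exact k.1.2)⟩
            invFun := fun k => ⟨⟨g⁻¹ * k.1 * g, (mem_stabK U).mp k.2⟩,
              (mem_stabK U).mpr (by group; exact k.1.2)⟩
            left_inv := fun k => Subtype.ext (Subtype.ext (by group))
            right_inv := fun k => Subtype.ext (Subtype.ext (by group)) }
        obtain ⟨j, hj⟩ := IsPGroup.iff_card.mp (hU.to_subgroup (stabK U g))
        have hj0 : j ≠ 0 := by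
          rintro rfl
          rw [pow_zero, Subgroup.card_eq_one] at hj
          exact hk1 ((Subgroup.mem_bot).mp (hj ▸ (mem_stabK U).mpr hk))
        have hK0 : (Nat.card (stabK U g) : ℂ) ≠ 0 := Nat.cast_ne_zero.mpr Nat.card_pos.ne'
        have e : hh g / (Nat.card (MulAction.stabilizer (U × U) g) : ℂ) =
            (Nat.card (stabK U g) : ℂ) * ((uSum U θ g / (Nat.card (stabK U g) : ℂ)) *
              (uSum U η g⁻¹ / (Nat.card (stabK U g⁻¹) : ℂ))) := by
          rw [hst, hst']
          show uSum U θ g * uSum U η g⁻¹ / _ = _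
          field_simp
        show Cfsg.MemLocalIdeal M _
        rw [e]
        refine memLocalIdeal_mul_right ?_ (mul_mem (uSum_div_mem U hM hU θ hθ g) (uSum_div_mem U hM hU η hη g⁻¹))
        rw [memLocalIdeal_natCast_iff hM, hj]
        exact dvd_pow_self p hj0
    have htot := sum_uSum_mul U hM hU θ η hη
    rw [← Finset.sum_filter_add_sum_filter_not Finset.univ P, hcell] at htot
    rw [Finset.sum_ite, Finset.sum_const_zero, zero_add, Nat.card_prod, Nat.cast_mul] at hrest
    have hU0 : (Nat.card U : ℂ) ≠ 0 := Nat.cast_ne_zero.mpr Nat.card_pos.ne'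
    have e : (∑ g ∈ Finset.univ.filter (fun g => ¬ P g), hh g) / ((Nat.card U : ℂ) * Nat.card U) =
        (r : ℂ) * Cfsg.classInner (η : G → ℂ) θ - ∑ i, uSum U θ (x i) * uSum U η (x i)⁻¹ := by
      rw [div_eq_iff (mul_ne_zero hU0 hU0)]
      rw [hG] at htot
      push_cast at htot
      linear_combination htot
    rw [e] at hrest
    exact hrest
  by_contra hne
  haveI : Nonempty ι := by
    by_contra h
    rw [not_nonempty_iff] at h
    exact hι (by simp)
  obtain ⟨i₀⟩ := (inferInstance : Nonempty ι)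
  have val : ∀ θ η : Cfsg.IrrCharacter G, IsDefectZero p θ → IsDefectZero p η →
      Cfsg.MemLocalIdeal M ((r : ℂ) * Cfsg.classInner (η : G → ℂ) θ -
        (Fintype.card ι : ℂ) * (uSum U θ (x i₀) * uSum U (Linear.conjChar η) (x i₀))) := by
    intro θ η hθ hη
    have h1 : Cfsg.MemLocalIdeal M (∑ i, (uSum U θ (x i) * uSum U η (x i)⁻¹ -
        uSum U θ (x i₀) * uSum U (Linear.conjChar η) (x i₀))) := by
      refine memLocalIdeal_sum _ fun i _ => ?_
      rw [hinv, show uSum U θ (x i) * uSum U (Linear.conjChar η) (x i) -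
          uSum U θ (x i₀) * uSum U (Linear.conjChar η) (x i₀) =
          (uSum U θ (x i) - uSum U θ (x i₀)) * uSum U (Linear.conjChar η) (x i) +
          uSum U θ (x i₀) * (uSum U (Linear.conjChar η) (x i) - uSum U (Linear.conjChar η) (x i₀)) by ring]
      exact memLocalIdeal_add (memLocalIdeal_mul_right (hcongr θ hθ i i₀) (hint _ _))
        (memLocalIdeal_mul_left (hint _ _) (hcongr _ (hdz η hη) i i₀))
    rw [Finset.sum_sub_distrib, Finset.sum_const, Finset.card_univ, nsmul_eq_mul] at h1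
    have h2 := memLocalIdeal_add (main θ η hθ hη) h1
    convert h2 using 1
    ring
  have hn : ∀ θ : Cfsg.IrrCharacter G, IsDefectZero p θ →
      ¬ Cfsg.MemLocalIdeal M (uSum U θ (x i₀) * uSum U (Linear.conjChar θ) (x i₀)) := by
    intro θ hθ hmem
    have h1 := memLocalIdeal_add (val θ θ hθ hθ)
      (memLocalIdeal_mul_left (natCast_mem (localRing M) (Fintype.card ι)) hmem)
    rw [Basic.classInner_self_irr, sub_add_cancel, mul_one, memLocalIdeal_natCast_iff hM] at h1
    exact hr h1
  have h12 := val χ ψ hχ hψ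
  rw [Basic.classInner_irr_of_ne (Ne.symm hne), mul_zero, zero_sub] at h12
  have h12' := memLocalIdeal_neg h12
  rw [neg_neg] at h12'
  refine not_memLocalIdeal_mul (natCast_mem _ _) (mul_mem (hint _ _) (hint _ _))
    (by rwa [memLocalIdeal_natCast_iff hM]) ?_ h12'
  refine not_memLocalIdeal_mul (hint _ _) (hint _ _) (fun h => hn χ hχ ?_) (fun h => hn ψ hψ ?_)
  · exact memLocalIdeal_mul_right h (hint _ _)
  · exact memLocalIdeal_mul_left (hint _ _) h

end Cfsg.Agent.Lib.SLBlocks49.DefectZero
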