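import Mathlib
import Cfsg.Agent.Lib.SLBlocks49.DefectZero

/-!
Congruences for the biinvariant sums `∑_{u ∈ U} χ (a u)` from squares in the integral Hecke ring:
if `(T_a - T_b)²` is divisible by `p` then the traces of `T_a` and `T_b` are congruent.
-/

set_option autoImplicit false
set_option linter.style.haveILetI false

namespace Cfsg.Agent.Lib.SLBlocks49.Hecke

open Cfsg.Agent.Lib.Characters Cfsg.Agent.Lib.Blocks Cfsg.Agent.Lib.SLBlocks49.DefectZero

universe u

variable {G : Type u} [Group G] [Fintype G] (U : Subgroup G)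

/-- Biinvariant integral functions. -/
def biinv : Submodule ℤ (G → ℤ) where
  carrier := {φ | ∀ (a b : U) (g : G), φ ((a : G) * g * b) = φ g}
  add_mem' h h' a b g := by simp [h a b g, h' a b g]
  zero_mem' _ _ _ := rfl
  smul_mem' c φ h a b g := by simp [h a b g]

/-- The indicator of a double coset. -/
noncomputable def ind (a : G) : G → ℤ := by
  classical exact fun g => if ∃ u v : U, g = (u : G) * a * v then 1 else 0

theorem ind_mem (a : G) : ind U a ∈ biinv U := by
  classical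
  intro s t g
  unfold ind
  refine if_congr ⟨fun ⟨u, v, e⟩ => ⟨s⁻¹ * u, v * t⁻¹, ?_⟩, fun ⟨u, v, e⟩ => ⟨s * u, v * t, ?_⟩⟩ rfl rfl
  · push_cast
    calc g = (s : G)⁻¹ * ((s : G) * g * t) * (t : G)⁻¹ := by group
      _ = _ := by rw [e]; group
  · push_cast; rw [e]; group

variable [Fintype U]

/-- Convolution over left cosets. -/
noncomputable def conv (φ ψ : G → ℤ) : G → ℤ := by
  classical exact fun x => ∑ q : G ⧸ U, φ q.out * ψ (q.out⁻¹ * x)

theorem conv_eq (φ ψ : G → ℤ) (hφ : φ ∈ biinv U) (hψ : ψ ∈ biinv U) (x : G) :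
    ∑ y : G, φ y * ψ (y⁻¹ * x) = (Nat.card U : ℤ) * conv U φ ψ x := by
  classical
  rw [← Finset.sum_fiberwise Finset.univ (fun y : G => (QuotientGroup.mk y : G ⧸ U)), conv, Finset.mul_sum]
  refine Finset.sum_congr (by ext q; simp) fun q _ => ?_
  rw [Finset.sum_congr rfl (g := fun _ => φ q.out * ψ (q.out⁻¹ * x)) fun y hy => ?_,
    Finset.sum_const, nsmul_eq_mul]
  · congr 1
    norm_cast
    rw [Nat.card_eq_fintype_card, ← Finset.card_univ]
    symm
    refine Finset.card_bij (fun u _ => q.out * (u : G)) (fun u _ => ?_) (fun u _ u' _ h => ?_) fun y hy => ?_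
    · exact Finset.mem_filter.mpr ⟨Finset.mem_univ _, by
        rw [QuotientGroup.mk_mul_of_mem _ u.2, QuotientGroup.out_eq']⟩
    · exact Subtype.ext (mul_left_cancel h)
    · obtain ⟨v, hv⟩ := QuotientGroup.mk_out_eq_mul U y
      refine ⟨v⁻¹, Finset.mem_univ _, ?_⟩
      rw [← (Finset.mem_filter.mp hy).2, hv, Subgroup.coe_inv, mul_inv_cancel_right]
  · obtain ⟨v, hv⟩ := QuotientGroup.mk_out_eq_mul U y
    have e : q.out = y * (v : G) := by rw [← (Finset.mem_filter.mp hy).2]; exact hv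
    rw [e]
    have h1 := hφ 1 v y
    have h2 := hψ v⁻¹ 1 (y⁻¹ * x)
    simp only [OneMemClass.coe_one, one_mul, mul_one, Subgroup.coe_inv] at h1 h2
    rw [h1, mul_inv_rev, mul_assoc, h2]

theorem conv_mem {φ ψ : G → ℤ} (hφ : φ ∈ biinv U) (hψ : ψ ∈ biinv U) : conv U φ ψ ∈ biinv U := by
  intro a b g
  have key : (Nat.card U : ℤ) * conv U φ ψ ((a : G) * g * b) = (Nat.card U : ℤ) * conv U φ ψ g := by
    rw [← conv_eq U φ ψ hφ hψ, ← conv_eq U φ ψ hφ hψ]
    refine Fintype.sum_equiv (Equiv.mulLeft (a : G)⁻¹) _ _ fun y => ?_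
    show φ y * ψ (y⁻¹ * ((a : G) * g * b)) = φ ((a : G)⁻¹ * y) * ψ (((a : G)⁻¹ * y)⁻¹ * g)
    have h1 := hφ a⁻¹ 1 y
    have h2 := hψ 1 b (y⁻¹ * ((a : G) * g))
    simp only [OneMemClass.coe_one, one_mul, mul_one, Subgroup.coe_inv] at h1 h2
    rw [h1, mul_inv_rev, inv_inv, mul_assoc y⁻¹ (a : G) g, ← h2, ← mul_assoc y⁻¹ ((a : G) * g) (b : G)]
  exact mul_left_cancel₀ (Int.natCast_ne_zero.mpr Nat.card_pos.ne') key

variable {V : Type*} [AddCommGroup V] [Module ℂ V] (ρ : Representation ℂ G V)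

/-- The operator of a biinvariant function. -/
noncomputable def op (φ : G → ℤ) : Module.End ℂ V :=
  (Nat.card U : ℂ)⁻¹ • ∑ y : G, (φ y : ℂ) • ρ y

theorem op_add (φ ψ : G → ℤ) : op U ρ (φ + ψ) = op U ρ φ + op U ρ ψ := by
  simp [op, add_smul, Finset.sum_add_distrib]

theorem op_smul (c : ℤ) (φ : G → ℤ) : op U ρ (c • φ) = c • op U ρ φ := by
  rw [op, op, ← Int.cast_smul_eq_zsmul ℂ c ((Nat.card U : ℂ)⁻¹ • ∑ y : G, (φ y : ℂ) • ρ y)]
  simp only [Pi.smul_apply, smul_eq_mul, Int.cast_mul, mul_smul, ← Finset.smul_sum]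
  rw [smul_comm]

theorem op_mul {φ ψ : G → ℤ} (hφ : φ ∈ biinv U) (hψ : ψ ∈ biinv U) :
    op U ρ φ * op U ρ ψ = op U ρ (conv U φ ψ) := by
  have hU : (Nat.card U : ℂ) ≠ 0 := Nat.cast_ne_zero.mpr Nat.card_pos.ne'
  have h : (∑ y : G, (φ y : ℂ) • ρ y) * (∑ z : G, (ψ z : ℂ) • ρ z) =
      ∑ x : G, ((∑ y : G, φ y * ψ (y⁻¹ * x) : ℤ) : ℂ) • ρ x := by
    rw [Finset.sum_mul_sum]
    rw [Finset.sum_congr rfl (g := fun y => ∑ x : G, ((φ y * ψ (y⁻¹ * x) : ℤ) : ℂ) • ρ x) fun y _ =>
      Fintype.sum_equiv (Equiv.mulLeft y) _ _ fun z => by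
        show (φ y : ℂ) • ρ y * ((ψ z : ℂ) • ρ z) = ((φ y * ψ (y⁻¹ * (y * z)) : ℤ) : ℂ) • ρ (y * z)
        rw [inv_mul_cancel_left, Int.cast_mul, map_mul, smul_mul_smul_comm], Finset.sum_comm]
    refine Finset.sum_congr rfl fun x _ => ?_
    rw [Int.cast_sum, Finset.sum_smul]
  simp only [op, smul_mul_smul_comm, h, conv_eq U φ ψ hφ hψ, Int.cast_mul, mul_smul,
    ← Finset.smul_sum, Int.cast_natCast]
  rw [smul_smul (Nat.card U : ℂ)⁻¹ (Nat.card U : ℂ), inv_mul_cancel₀ hU, one_smul]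

/-- The unital integral Hecke ring. -/
noncomputable def opLin : ℤ × biinv U →ₗ[ℤ] Module.End ℂ V where
  toFun x := x.1 • (1 : Module.End ℂ V) + op U ρ x.2.1
  map_add' x y := by
    simp only [Prod.fst_add, Prod.snd_add, Submodule.coe_add, op_add, add_smul]
    abel
  map_smul' c x := by
    simp only [Prod.smul_fst, Prod.smul_snd, SetLike.val_smul, op_smul, smul_add, RingHom.id_apply,
      smul_assoc]

theorem op_zero : op U ρ 0 = 0 := by simp [op]

/-- The integral Hecke ring as a subalgebra. -/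
noncomputable def hecke : Subalgebra ℤ (Module.End ℂ V) where
  carrier := LinearMap.range (opLin U ρ)
  one_mem' := ⟨(1, 0), by simp [opLin, op_zero]⟩
  mul_mem' := by
    rintro _ _ ⟨x, rfl⟩ ⟨y, rfl⟩
    refine ⟨(x.1 * y.1, x.1 • y.2 + y.1 • x.2 + ⟨conv U x.2.1 y.2.1, conv_mem U x.2.2 y.2.2⟩), ?_⟩
    simp only [opLin, LinearMap.coe_mk, AddHom.coe_mk, Submodule.coe_add, SetLike.val_smul, op_add,
      op_smul, add_mul, mul_add, op_mul U ρ x.2.2 y.2.2, smul_mul_assoc, mul_smul_comm, one_mul,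
      mul_one, smul_add, smul_smul, mul_comm y.1 x.1]
    abel
  zero_mem' := zero_mem (LinearMap.range (opLin U ρ))
  add_mem' := add_mem
  algebraMap_mem' r := ⟨(r, 0), by simp [opLin, op_zero, Algebra.algebraMap_eq_smul_one]⟩

theorem isIntegral_op {φ : G → ℤ} (hφ : φ ∈ biinv U) : IsIntegral ℤ (op U ρ φ) := by
  refine IsIntegral.of_mem_of_fg (hecke U ρ) ?_ _ ⟨(0, ⟨φ, hφ⟩), by simp [opLin]⟩
  have : Module.Finite ℤ (biinv U) := Module.Finite.iff_fg.mpr (IsNoetherian.noetherian _)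
  have h : Subalgebra.toSubmodule (hecke U ρ) = LinearMap.range (opLin U ρ) := SetLike.ext fun _ => Iff.rfl
  rw [h, LinearMap.range_eq_map]
  exact (Module.Finite.fg_top).map _

theorem isIntegral_eigen {A : Module.End ℂ V} (hA : IsIntegral ℤ A) {μ : ℂ} {v : V}
    (hv : Module.End.HasEigenvector A μ v) : IsIntegral ℤ μ := by
  obtain ⟨P, hP, hPe⟩ := hA
  refine ⟨P, hP, ?_⟩
  have h := Module.End.aeval_apply_of_hasEigenvector (p := P.map (algebraMap ℤ ℂ)) hv
  rw [Polynomial.aeval_map_algebraMap, Polynomial.aeval_def, hPe, LinearMap.zero_apply,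
    Polynomial.eval_map] at h
  exact ((smul_eq_zero.mp h.symm).resolve_right hv.2)

variable {p : ℕ} [Fact p.Prime] {M : Ideal Cfsg.AlgInt} [M.IsMaximal] (hM : Cfsg.IsPModular p M)

include hM

/-- A biinvariant operator whose square is divisible by `p` has trace in the local ideal. -/
theorem trace_mem [FiniteDimensional ℂ V] {φ ψ : G → ℤ} (hφ : φ ∈ biinv U) (hψ : ψ ∈ biinv U)
    (h : conv U φ φ = (p : ℤ) • ψ) : Cfsg.MemLocalIdeal M (LinearMap.trace ℂ V (op U ρ φ)) := by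
  classical
  let Y := op U ρ φ
  rw [show LinearMap.trace ℂ V Y = Y.charpoly.roots.sum from ?_]
  · refine Multiset.sum_induction _ _ (fun _ _ => memLocalIdeal_add) memLocalIdeal_zero fun μ hμ => ?_
    rw [Polynomial.mem_roots Y.charpoly_monic.ne_zero] at hμ
    obtain ⟨v, hv⟩ := ((Module.End.hasEigenvalue_iff_isRoot_charpoly Y μ).mpr hμ).exists_hasEigenvector
    have hY : IsIntegral ℤ μ := isIntegral_eigen (isIntegral_op U ρ hφ) hv
    have hp0 : (p : ℂ) ≠ 0 := Nat.cast_ne_zero.mpr (Fact.out : p.Prime).ne_zero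
    have hZ : Module.End.HasEigenvector (op U ρ ψ) (μ ^ 2 / p) v := by
      refine ⟨Module.End.mem_eigenspace_iff.mpr ?_, hv.2⟩
      have h2 : (p : ℂ) • op U ρ ψ v = μ ^ 2 • v := by
        have e := hv.pow_apply 2
        rw [pow_two Y, op_mul U ρ hφ hφ, h, op_smul, LinearMap.smul_apply] at e
        rw [← e, ← Int.cast_smul_eq_zsmul ℂ, Int.cast_natCast]
      rw [div_eq_inv_mul, mul_smul, ← h2, inv_smul_smul₀ hp0]
    have hν := isIntegral_eigen (isIntegral_op U ρ hψ) hZ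
    have hsq : Cfsg.MemLocalIdeal M (μ ^ 2) := by
      rw [show μ ^ 2 = (p : ℂ) * (μ ^ 2 / p) by field_simp]
      exact memLocalIdeal_mul_right (natCast_prime_mem_localIdeal hM) (mem_localRing_of_isIntegral hν)
    by_contra hne
    exact not_memLocalIdeal_mul (mem_localRing_of_isIntegral hY) (mem_localRing_of_isIntegral hY)
      hne hne (pow_two μ ▸ hsq)
  · exact Y.trace_eq_sum_roots_charpoly_of_splits (IsAlgClosed.splits _)

/-- Congruence of the biinvariant sums. -/
theorem uSum_congr (χ : Cfsg.IrrCharacter G) {a b : G}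
    (ha : ∀ u v : U, (u : G) * a * v = a → u = 1)
    (hb : ∀ u v : U, (u : G) * b * v = b → u = 1)
    (hN : ∀ x : G, (p : ℤ) ∣
      (Nat.card {u : U // ∃ v v' : U, (u : G) * x = a * v * a * v'} : ℤ) -
      (Nat.card {u : U // ∃ v v' : U, (u : G) * x = a * v * b * v'} : ℤ) -
      (Nat.card {u : U // ∃ v v' : U, (u : G) * x = b * v * a * v'} : ℤ) +
      (Nat.card {u : U // ∃ v v' : U, (u : G) * x = b * v * b * v'} : ℤ)) :
    Cfsg.MemLocalIdeal M (uSum U χ a - uSum U χ b) := by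
  classical
  obtain ⟨d, ρ, hρ, hc⟩ := Basic.exists_rep χ
  have hN' : ∀ c e : G, (∀ u v : U, (u : G) * c * v = c → u = 1) → ∀ x : G,
      conv U (ind U c) (ind U e) x = Nat.card {u : U // ∃ v v' : U, (u : G) * x = c * v * e * v'} := by
    intro c e hc' x
    rw [conv, Nat.card_eq_fintype_card, Fintype.card_subtype, Finset.card_filter, Nat.cast_sum,
      ← Finset.sum_filter_add_sum_filter_not _ (fun q : G ⧸ U => ∃ u v : U, q.out = (u : G) * c * v),
      Finset.sum_eq_zero (s := Finset.univ.filter fun q : G ⧸ U => ¬ ∃ u v : U, q.out = (u : G) * c * v)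
        (fun q hq => by
          rw [ind, if_neg (Finset.mem_filter.mp hq).2, zero_mul]), add_zero]
    refine (Finset.sum_bij (fun (u : U) _ => (QuotientGroup.mk ((u : G)⁻¹ * c) : G ⧸ U))
      (fun u _ => ?_) (fun u _ u' _ h => ?_) (fun q hq => ?_) (fun u _ => ?_)).symm
    · obtain ⟨v, hv⟩ := QuotientGroup.mk_out_eq_mul U ((u : G)⁻¹ * c)
      exact Finset.mem_filter.mpr ⟨Finset.mem_univ _, u⁻¹, v, by rw [hv, Subgroup.coe_inv]⟩
    · rw [QuotientGroup.eq] at h
      refine (mul_inv_eq_one.mp (hc' (u' * u⁻¹) ⟨_, h⟩ ?_)).symm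
      push_cast; group
    · obtain ⟨u, v, e'⟩ := (Finset.mem_filter.mp hq).2
      refine ⟨u⁻¹, Finset.mem_univ _, ?_⟩
      rw [Subgroup.coe_inv, inv_inv, ← QuotientGroup.out_eq' q, e',
        show (u : G) * c * v = (u : G) * c * (v : G) from rfl, QuotientGroup.mk_mul_of_mem _ v.2]
    · obtain ⟨v, hv⟩ := QuotientGroup.mk_out_eq_mul U ((u : G)⁻¹ * c)
      rw [hv, Nat.cast_ite, Nat.cast_one, Nat.cast_zero]
      have h1 : ind U c (((u : G)⁻¹ * c) * v) = 1 := if_pos ⟨u⁻¹, v, by rw [Subgroup.coe_inv]⟩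
      rw [h1, one_mul]
      unfold ind
      by_cases hP : ∃ s t : U, (u : G) * x = c * s * e * t
      · obtain ⟨s, t, h⟩ := hP
        rw [if_pos ⟨s, t, h⟩, if_pos]
        refine ⟨v⁻¹ * s, t, ?_⟩
        rw [mul_inv_rev, mul_inv_rev, inv_inv, mul_assoc, mul_assoc, h]
        push_cast; group
      · rw [if_neg hP, if_neg]
        rintro ⟨s, t, h⟩
        apply hP
        refine ⟨v * s, t, ?_⟩
        rw [inv_mul_eq_iff_eq_mul] at h
        rw [h]
        push_cast; group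
  have hbi : ind U a - ind U b ∈ biinv U := sub_mem (ind_mem U a) (ind_mem U b)
  have hc2 := conv_mem U hbi hbi
  have hexp : ∀ x, conv U (ind U a - ind U b) (ind U a - ind U b) x =
      conv U (ind U a) (ind U a) x - conv U (ind U a) (ind U b) x -
        conv U (ind U b) (ind U a) x + conv U (ind U b) (ind U b) x := by
    intro x
    simp only [conv, Pi.sub_apply, sub_mul, mul_sub, Finset.sum_sub_distrib]
    ring
  have hdiv : ∀ x, (p : ℤ) ∣ conv U (ind U a - ind U b) (ind U a - ind U b) x := by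
    intro x
    rw [hexp, hN' a a ha, hN' a b ha, hN' b a hb, hN' b b hb]
    exact hN x
  choose ψ hψ using hdiv
  have hψm : ψ ∈ biinv U := fun s t g => by
    have h := hc2 s t g
    rw [hψ, hψ] at h
    exact mul_left_cancel₀ (Int.natCast_ne_zero.mpr (Fact.out : p.Prime).ne_zero) h
  have := trace_mem U ρ hM hbi hψm (funext fun x => by rw [hψ]; rfl)
  convert this using 1
  have htr : ∀ c : G, (∀ u v : U, (u : G) * c * v = c → u = 1) →
      LinearMap.trace ℂ _ (op U ρ (ind U c)) = uSum U χ c := by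
    intro c hc'
    rw [op, map_smul, map_sum]
    simp only [map_smul, smul_eq_mul]
    have e1 : ∑ y : G, ((ind U c y : ℤ) : ℂ) * LinearMap.trace ℂ _ (ρ y) =
        ∑ t : U × U, (χ : G → ℂ) ((t.1 : G) * c * t.2) := by
      rw [← Finset.sum_image (f := fun y => (χ : G → ℂ) y) (g := fun t : U × U => (t.1 : G) * c * t.2),
        ← Finset.sum_filter_add_sum_filter_not Finset.univ (fun y => ∃ u v : U, y = (u : G) * c * v),
        Finset.sum_eq_zero (s := Finset.univ.filter fun y => ¬ ∃ u v : U, y = (u : G) * c * v)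
          (fun y hy => by rw [ind, if_neg (Finset.mem_filter.mp hy).2, Int.cast_zero, zero_mul]), add_zero]
      · refine Finset.sum_congr ?_ fun y hy => ?_
        · ext y; simp [eq_comm]
        · obtain ⟨t, -, rfl⟩ := Finset.mem_image.mp hy
          rw [ind, if_pos ⟨t.1, t.2, rfl⟩, Int.cast_one, one_mul, ← hc]
          rfl
      · rintro ⟨u, v⟩ _ ⟨u', v'⟩ _ h
        simp only at h
        have h1 := hc' (u'⁻¹ * u) (v * v'⁻¹) (by
          push_cast
          calc (u' : G)⁻¹ * u * c * ((v : G) * (v' : G)⁻¹) = (u' : G)⁻¹ * ((u : G) * c * v) * (v' : G)⁻¹ := by group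
            _ = c := by rw [h]; group)
        rw [inv_mul_eq_one] at h1
        subst h1
        rw [Subtype.ext (mul_left_cancel h)]
    rw [e1, Fintype.sum_prod_type, Finset.sum_congr rfl (g := fun _ : U => uSum U χ c) fun u _ => ?_,
      Finset.sum_const, Finset.card_univ, nsmul_eq_mul, ← Nat.card_eq_fintype_card,
      inv_mul_cancel_left₀ (Nat.cast_ne_zero.mpr Nat.card_pos.ne')]
    refine Eq.trans ?_ (uSum_biinv U χ u.2 (one_mem U) c)
    simp only [uSum, mul_one]
  have e2 : op U ρ (ind U a - ind U b) = op U ρ (ind U a) - op U ρ (ind U b) := by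
    rw [eq_sub_iff_add_eq, ← op_add, sub_add_cancel]
  rw [e2, map_sub, htr a ha, htr b hb]

end Cfsg.Agent.Lib.SLBlocks49.Hecke
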